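import Groth.Agent.Lib.IntSect15.Space
import Groth.Agent.Lib.AlgSpDecent.Sober
import Groth.Agent.Lib.AlgSpDecent.MonoPoint
import Mathlib.AlgebraicGeometry.Morphisms.QuasiFinite
import Mathlib.AlgebraicGeometry.Stalk

/-!
# Integral charts of normal integral algebraic spaces
-/

universe u

set_option backward.isDefEq.respectTransparency.types false

open CategoryTheory CategoryTheory.Limits AlgebraicGeometry Opposite TopologicalSpace

namespace Groth.Agent.IntSect15

open AlgSp Groth.Agent.AlgSpace Groth.Agent.AlgSpDecent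

variable {S : Scheme.{u}} {X : Sp S}

/-- An affine chart of an integral space is covered by the closures of finitely many points. -/
theorem exists_finite_dense (hX : IsAlgSpace X) (hd : IsDecent X) [IrreducibleSpace (Points X)]
    {U : Over S} [IsAffine U.left] {a : (yon S).obj U ⟶ X} (ha : RepWith @Etale a) :
    ∃ F : Set ↥U.left, F.Finite ∧ ∀ u, ∃ f ∈ F, f ⤳ u := by
  have := quasiSober_of_isDecent hX hd
  obtain ⟨q, hq, -, hqc⟩ := hd (genericPoint (Points X))
  let F : Set ↥U.left := Points.ofPt a ⁻¹' {genericPoint (Points X)}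
  have hdense : Dense F := by
    rw [dense_iff_closure_eq, ← (isOpenMap_ofPt a ha).preimage_closure_eq_closure_preimage (Points.continuous_ofPt a),
      (genericPoint_spec (Points X))]
    exact Set.preimage_univ
  have hfin : F.Finite := by
    obtain ⟨k, hk⟩ := (yon S).map_surjective (hqc.1.fst a)
    have sq := hqc.1.isPullback a
    rw [← hk] at sq
    have : QuasiCompact (hqc.1.snd a).left := hqc.2 a _ _ (hqc.1.isPullback a)
    have : Etale k.left := ha.2 q.toHom _ k (by exact sq.flip)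
    have : CompactSpace ↥(Over.left (hqc.1.pullback a)) := QuasiCompact.compactSpace_of_compactSpace (hqc.1.snd a).left
    have : Subsingleton ↥q.pt.left := inferInstanceAs (Subsingleton (PrimeSpectrum q.K))
    have : IsAffine q.pt.left := inferInstanceAs (IsAffine (Spec (CommRingCat.of q.K)))
    have : QuasiCompact k.left := (HasAffineProperty.iff_of_isAffine (P := @QuasiCompact)).2 inferInstance
    have : LocallyQuasiFinite k.left := AlgSpDecent.locallyQuasiFinite_of_etale k.left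
    refine ((k.left.finite_preimage_singleton (IsLocalRing.closedPoint q.K)).image (hqc.1.snd a).left).subset ?_
    intro u hu
    obtain ⟨v, -, hv⟩ := exists_pt_of_isPullback sq (x := Points.ofScheme q.pt (IsLocalRing.closedPoint q.K)) (t := u) (by
      rw [← Points.ofPt_eq_map_ofScheme, Points.ofPt_toHom q]
      exact hq.trans (Set.mem_singleton_iff.1 hu).symm)
    exact ⟨v, Set.mem_preimage.2 (Subsingleton.elim _ _), hv⟩
  refine ⟨F, hfin, fun u => ?_⟩
  have h : u ∈ closure (⋃ f ∈ F, {f}) := by rw [Set.biUnion_of_singleton]; exact hdense u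
  rw [hfin.closure_biUnion] at h
  obtain ⟨f, hf, hfu⟩ := Set.mem_iUnion₂.1 h
  exact ⟨f, hf, specializes_iff_mem_closure.2 hfu⟩

/-- A point with a domain as local ring has an irreducible neighbourhood. -/
theorem exists_irreducible_nhd {U : Scheme.{u}} {F : Set ↥U} (hF : F.Finite) (hcov : ∀ u, ∃ f ∈ F, f ⤳ u) (x : U)
    [IsDomain (U.presheaf.stalk x)] :
    ∃ (g : U) (O : U.Opens), x ∈ O ∧ g ⤳ x ∧ ∀ w ∈ O, g ⤳ w := by
  let p : Spec (U.presheaf.stalk x) := ⟨⊥, Ideal.isPrime_bot⟩
  let g := U.fromSpecStalk x p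
  have hg : ∀ f, f ⤳ x → g ⤳ f := by
    intro f hf
    have hf' : f ∈ Set.range (U.fromSpecStalk x) := by rw [Scheme.range_fromSpecStalk]; exact hf
    obtain ⟨p', rfl⟩ := hf'
    exact ((PrimeSpectrum.le_iff_specializes p p').1 bot_le).map (U.fromSpecStalk x).continuous
  let bad := {f ∈ F | ¬ f ⤳ x}
  have hbad : bad.Finite := hF.subset fun f hf => hf.1
  let O : U.Opens := ⟨(⋃ f ∈ bad, closure {f})ᶜ, (hbad.isClosed_biUnion fun f _ => isClosed_closure).isOpen_compl⟩
  refine ⟨g, O, fun hx => ?_, ?_, fun w hw => ?_⟩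
  · obtain ⟨f, hf, hfx⟩ := Set.mem_iUnion₂.1 hx
    exact hf.2 (specializes_iff_mem_closure.2 hfx)
  · exact (show g ∈ {y | y ⤳ x} from (U.range_fromSpecStalk (x := x)) ▸ Set.mem_range_self p)
  · obtain ⟨f, hf, hfw⟩ := hcov w
    exact (hg f (by_contra fun h => hw (Set.mem_iUnion₂.2 ⟨f, ⟨hf, h⟩, specializes_iff_mem_closure.1 hfw⟩))).trans hfw

/-- An affine integral scheme with normal local rings has a normal ring of functions. -/
theorem isIntegrallyClosed_gamma {V : Scheme.{u}} [IsIntegral V]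
    (h : ∀ u : V, IsDomain (V.presheaf.stalk u) ∧ IsIntegrallyClosed (V.presheaf.stalk u)) :
    IsIntegrallyClosed Γ(V, ⊤) := by
  rw [isIntegrallyClosed_iff (FractionRing Γ(V, ⊤))]
  intro x hx
  obtain ⟨f, g, hg, rfl⟩ := IsFractionRing.div_surjective (A := Γ(V, ⊤)) x
  have hg0 : g ≠ 0 := nonZeroDivisors.ne_zero hg
  have hne : ∀ {y : Γ(V, ⊤)}, y ≠ 0 → Dense (V.basicOpen y : Set V) := fun {y} hy =>
    (V.basicOpen y).isOpen.dense
      (Set.nonempty_iff_ne_empty.2 fun e => hy ((basicOpen_eq_bot_iff _).1 (Opens.ext e)))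
  obtain ⟨c, hc⟩ := exists_eq_mul (hne hg0) fun u => by
    obtain ⟨_, _⟩ := h u
    refine exists_mul_eq_of_isIntegral (V.presheaf.germ ⊤ u trivial).hom ((injective_iff_map_eq_zero _).2 fun y hy => ?_) hg0 hx
    by_contra hy0
    exact germ_ne_zero (hne hy0) u hy
  refine ⟨c, ?_⟩
  rw [eq_div_iff (fun e => hg0 ((IsFractionRing.injective Γ(V, ⊤) (FractionRing Γ(V, ⊤))) (e.trans (map_zero _).symm))),
    ← map_mul, mul_comm, hc]

theorem exists_chart (hX : IsAlgSpace X) (hred : IsReducedSp X) (hd : IsDecent X) [IrreducibleSpace (Points X)]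
    (hn : EtaleLocally (fun U => ∀ u : ↥U, IsDomain ↥(U.presheaf.stalk u) ∧
      IsIntegrallyClosed ↥(U.presheaf.stalk u)) X) (x : Points X) :
    ∃ (U : Over S) (a : (yon S).obj U ⟶ X), RepWith @Etale a ∧ IsAffine U.left ∧
      IsIntegral U.left ∧ IsIntegrallyClosed ↥Γ(U.left, ⊤) ∧ x ∈ Set.range (Points.ofPt a) := by
  obtain ⟨U₀, a₀, hae, has, hU⟩ := hn
  obtain ⟨u₀, rfl⟩ := surjective_ofPt has x
  obtain ⟨W, hW, huW, -⟩ := exists_isAffineOpen_mem_and_subset (U := (⊤ : U₀.left.Opens)) (x := u₀) trivial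
  have hstalk : ∀ {V : Scheme.{u}} (i : V ⟶ U₀.left) [IsOpenImmersion i] (v : V),
      IsDomain (V.presheaf.stalk v) ∧ IsIntegrallyClosed (V.presheaf.stalk v) := fun i _ v => by
    obtain ⟨h₁, h₂⟩ := hU (i v)
    let e := (asIso (i.stalkMap v)).commRingCatIsoToRingEquiv
    exact ⟨e.symm.injective.isDomain e.symm.toRingHom, IsIntegrallyClosed.of_equiv e⟩
  let U : Over S := Over.mk (W.ι ≫ U₀.hom)
  let a : (yon S).obj U ⟶ X := (yon S).map (Over.homMk W.ι rfl : U ⟶ U₀) ≫ a₀
  have ha : RepWith @Etale a := repWith_etale_restrict hae W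
  have : IsAffine U.left := hW
  obtain ⟨F, hF, hcov⟩ := exists_finite_dense hX hd ha
  obtain ⟨h₁, -⟩ := hstalk W.ι (⟨u₀, huW⟩ : W)
  have : IsDomain (U.left.presheaf.stalk (⟨u₀, huW⟩ : W)) := h₁
  obtain ⟨g, O, hxO, hgx, hgO⟩ := exists_irreducible_nhd hF hcov (⟨u₀, huW⟩ : U.left)
  obtain ⟨V, hV, hxV, hVO⟩ := exists_isAffineOpen_mem_and_subset (U := O) hxO
  let U' : Over S := Over.mk (V.ι ≫ U.hom)
  let a' : (yon S).obj U' ⟶ X := (yon S).map (Over.homMk V.ι rfl : U' ⟶ U) ≫ a
  have ha' : RepWith @Etale a' := repWith_etale_restrict ha V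
  have : IsReduced U'.left :=
    AlgSpDescent.prop_of_etale_chart AlgSpDescent.isReduced_up AlgSpDescent.isReduced_down hred ha'
  have hgen : IsGenericPoint (⟨g, hgx.mem_open V.isOpen hxV⟩ : V) Set.univ := by
    rw [isGenericPoint_iff_specializes]
    exact fun w => ⟨fun _ => trivial, fun _ => Topology.IsInducing.subtypeVal.specializes_iff.1 (hgO _ (hVO w.2))⟩
  have : IrreducibleSpace ↥U'.left := (irreducibleSpace_def ↥U'.left).2 hgen.isIrreducible
  have : IsIntegral U'.left := isIntegral_of_irreducibleSpace_of_isReduced _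
  refine ⟨U', a', ha', hV, this, isIntegrallyClosed_gamma fun v => hstalk (V.ι ≫ W.ι) v,
    ⟨(⟨⟨u₀, huW⟩, hxV⟩ : V), ?_⟩⟩
  exact (ofPt_map_comp _ a _).trans (ofPt_map_comp _ a₀ _)

end Groth.Agent.IntSect15
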